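import Groth.Agent.An.H596.Cons
import Groth.Agent.S3504
import Groth.Prelude.Def_AnEps

/-!
# `Rf_*` preserves `D^+` with torsion constructible cohomology, characteristic zero

`push` (over a field of characteristic zero), `pushSC` (over `An.SC = Spec ℂ`).
-/

set_option autoImplicit false
universe u
open CategoryTheory CategoryTheory.Limits AlgebraicGeometry

attribute [local instance] HasDerivedCategory.standard

namespace Groth.Agent.An.H596.Cons.IsCT

open Groth.Agent.Etrest.DEtPush

theorem push (k : Type u) [Field k] [CharZero k] {X S : Scheme.{u}}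
    (aX : X ⟶ Spec (CommRingCat.of k)) (aS : S ⟶ Spec (CommRingCat.of k)) [LocallyOfFiniteType aX]
    [LocallyOfFiniteType aS] (f : X ⟶ S) (w : f ≫ aS = aX) [QuasiCompact f]
    {K : DCoh.DEt X} (hK : IsCT K) : IsCT ((pushD f).obj K) := by
  have : LocallyOfFiniteType (f ≫ aS) := by rw [w]; infer_instance
  have : LocallyOfFiniteType f := locallyOfFiniteType_of_comp f aS
  exact push_of f (fun F hF q => S3504.result k aX aS f w F hF
    (EtpbcA.KilledBy.isTorsion_of_isConstructible hF) q) hK

theorem pushSC {X S : Scheme.{0}} [X.Over An.SC] [S.Over An.SC] [LocallyOfFiniteType (X ↘ An.SC)]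
    [LocallyOfFiniteType (S ↘ An.SC)] (f : X ⟶ S) [f.IsOver An.SC] [QuasiCompact f]
    {K : DCoh.DEt X} (hK : IsCT K) : IsCT ((pushD f).obj K) :=
  push ℂ (X ↘ An.SC) (S ↘ An.SC) f (comp_over f An.SC) hK

end Groth.Agent.An.H596.Cons.IsCT
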